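import Groth.Agent.GrLib8.RegList

/-!
# Standard graded Cohen-Macaulay rings over an Artinian base with `a = -dim`
-/

set_option autoImplicit false
set_option linter.unusedSectionVars false
set_option linter.style.haveILetI false
set_option maxHeartbeats 1600000

universe u

open DirectSum RingTheory.Sequence MvPolynomial
open scoped Pointwise
open Groth.Agent.GrLib8

namespace Groth.Agent.PolyArt6

section Indep

variable {A R : Type u} [CommRing A] [CommRing R] [Algebra A R]

/-- A sequence regular modulo `I` is algebraically independent over a base embedded in the quotient. -/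
theorem eq_zero_of_regular : ∀ (n : ℕ) (x : Fin n → R) (I : Ideal R),
    (∀ (i : Fin n) (y : R), x i * y ∈ I ⊔ Ideal.span (x '' {j | j < i}) → y ∈ I ⊔ Ideal.span (x '' {j | j < i})) →
    (∀ a : A, algebraMap A R a ∈ I ⊔ Ideal.span (Set.range x) → a = 0) →
    ∀ p : MvPolynomial (Fin n) A, aeval x p ∈ I → p = 0
  | 0, x, I, _, hinj, p, hp => by
    obtain ⟨a, rfl⟩ := MvPolynomial.C_surjective (R := A) (Fin 0) p
    rw [aeval_C] at hp
    rw [hinj a (Ideal.mem_sup_left hp), map_zero]
  | n + 1, x, I, hreg, hinj, p, hp => by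
    classical
    let x' : Fin n → R := fun j => x j.succ
    let I' : Ideal R := I ⊔ Ideal.span {x 0}
    have hset : ∀ i : Fin n, I' ⊔ Ideal.span (x' '' {j | j < i}) = I ⊔ Ideal.span (x '' {j | j < i.succ}) := by
      intro i
      rw [sup_assoc, ← Ideal.span_union]
      congr 2
      ext r
      constructor
      · rintro (h | ⟨j, hj, rfl⟩)
        · exact ⟨0, Fin.succ_pos i, (Set.mem_singleton_iff.1 h).symm⟩
        · exact ⟨j.succ, Fin.succ_lt_succ_iff.2 hj, rfl⟩
      · rintro ⟨j, hj, rfl⟩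
        rcases Fin.eq_zero_or_eq_succ j with rfl | ⟨j', rfl⟩
        · exact Or.inl rfl
        · exact Or.inr ⟨j', Fin.succ_lt_succ_iff.1 hj, rfl⟩
    have hall : I' ⊔ Ideal.span (Set.range x') = I ⊔ Ideal.span (Set.range x) := by
      rw [sup_assoc, ← Ideal.span_union]
      congr 2
      rw [Set.singleton_union, ← Fin.range_cons]
      exact congrArg Set.range (Fin.cons_self_tail x)
    have key : ∀ q : MvPolynomial (Fin n) A, aeval x' q ∈ I' → q = 0 :=
      eq_zero_of_regular n x' I' (fun i y hy => by rw [hset] at hy ⊢; exact hreg i.succ y hy)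
        (fun a ha => hinj a (hall ▸ ha))
    let e := finSuccEquiv A n
    have haev : ∀ P : Polynomial (MvPolynomial (Fin n) A),
        aeval x (e.symm P) = P.eval₂ (aeval (R := A) x').toRingHom (x 0) := by
      intro P
      induction P using Polynomial.induction_on' with
      | add a b ha hb => rw [map_add, map_add, ha, hb, Polynomial.eval₂_add]
      | monomial k c =>
        rw [Polynomial.eval₂_monomial, ← Polynomial.C_mul_X_pow_eq_monomial, map_mul, map_pow, map_mul, map_pow]
        congr 1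
        · have h1 : e.symm (Polynomial.C c) = rename Fin.succ c := by
            rw [AlgEquiv.symm_apply_eq]
            induction c using MvPolynomial.induction_on with
            | C a => simp [e, finSuccEquiv_apply]
            | add a b ha hb => simp only [map_add, ha, hb]
            | mul_X a i ha => simp only [map_mul, ha, rename_X, e, finSuccEquiv_X_succ]
          rw [h1, aeval_rename]
          rfl
        · have h2 : e.symm Polynomial.X = MvPolynomial.X 0 := by
            rw [AlgEquiv.symm_apply_eq]; exact finSuccEquiv_X_zero.symm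
          rw [h2, aeval_X]
    suffices h : ∀ P : Polynomial (MvPolynomial (Fin n) A), P.eval₂ (aeval (R := A) x').toRingHom (x 0) ∈ I → P = 0 by
      have hP := h (e p) (by rw [← haev, e.symm_apply_apply]; exact hp)
      exact e.injective (hP.trans (map_zero e).symm)
    intro P
    induction hd : P.natDegree using Nat.strong_induction_on generalizing P with
    | _ k ih =>
      intro hP
      have h0 : P.coeff 0 = 0 := by
        refine key _ ?_
        have h1 : P.eval₂ (aeval (R := A) x').toRingHom (x 0) =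
            P.divX.eval₂ (aeval (R := A) x').toRingHom (x 0) * x 0 + aeval x' (P.coeff 0) := by
          conv_lhs => rw [← Polynomial.divX_mul_X_add P, Polynomial.eval₂_add, Polynomial.eval₂_mul_X, Polynomial.eval₂_C]
          rfl
        rw [h1] at hP
        have h2 : P.divX.eval₂ (aeval (R := A) x').toRingHom (x 0) * x 0 ∈ I' :=
          Ideal.mem_sup_right (Ideal.mul_mem_left _ _ (Ideal.mem_span_singleton_self _))
        exact (Ideal.add_mem_iff_right _ h2).1 (Ideal.mem_sup_left hP)
      have hX : P = P.divX * Polynomial.X := by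
        conv_lhs => rw [← Polynomial.divX_mul_X_add P, h0, map_zero, add_zero]
      rw [hX] at hP ⊢
      have hmem : P.divX.eval₂ (aeval (R := A) x').toRingHom (x 0) ∈ I := by
        rw [Polynomial.eval₂_mul_X, mul_comm] at hP
        have hbot : I ⊔ Ideal.span (x '' {j | j < (0 : Fin (n + 1))}) = I := by simp
        have := hreg 0 _ (hbot.ge hP)
        rwa [hbot] at this
      rcases eq_or_ne P 0 with hP0 | hP0
      · simp [hP0]
      · have hlt : P.divX.natDegree < k := by
          rw [Polynomial.natDegree_divX_eq_natDegree_tsub_one, ← hd]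
          have hne : P.natDegree ≠ 0 := fun hz => hP0 (by
            rw [Polynomial.eq_C_of_natDegree_eq_zero hz, h0, map_zero])
          omega
        rw [ih _ hlt P.divX rfl hmem, zero_mul]

end Indep

variable {R : Type u} [CommRing R] [IsNoetherianRing R] {𝒜 : ℤ → AddSubgroup R} [GradedRing 𝒜]
  {m : HomogeneousIdeal 𝒜} (hpos : ∀ g : ℤ, g < 0 → 𝒜 g = ⊥) (hm : GrLC.IsStarLocal 𝒜 m)
  (hstd : Ideal.span (⋃ n ∈ Set.Ioi (0 : ℤ), (𝒜 n : Set R)) = Ideal.span ((𝒜 1 : AddSubgroup R) : Set R))

include hpos hm in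
theorem isUnit_of_notMem {c : R} (hc : c ∈ 𝒜 0) (hcm : c ∉ m.toIdeal) : IsUnit c := by
  by_contra hu
  let S : HomogeneousIdeal 𝒜 := ⟨Ideal.span {c}, Ideal.homogeneous_span 𝒜 _ fun y hy => ⟨0, hy ▸ hc⟩⟩
  have hS : S ≠ ⊤ := fun h => hu (Ideal.span_singleton_eq_top.1
    ((congrArg HomogeneousIdeal.toIdeal h).trans HomogeneousIdeal.toIdeal_top))
  exact hcm (le_of_isStarLocal hm hS (Ideal.mem_span_singleton_self c))

variable [IsArtinianRing (GrLC.deg0 𝒜)]

include hpos hm in
theorem isNilpotent_of_mem {c : R} (hc : c ∈ 𝒜 0) (hcm : c ∈ m.toIdeal) : IsNilpotent c := by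
  obtain ⟨n, y, hy⟩ := IsArtinian.exists_pow_succ_smul_dvd (⟨c, hc⟩ : GrLC.deg0 𝒜) (1 : GrLC.deg0 𝒜)
  refine ⟨n, ?_⟩
  have hy' : c ^ (n + 1) * (y : R) = c ^ n := by
    have := congrArg Subtype.val hy
    simpa [smul_eq_mul] using this
  have h1 : c ^ n * (1 - c * y) = 0 := by rw [mul_sub, mul_one, ← mul_assoc, ← pow_succ, hy', sub_self]
  refine (IsUnit.mul_left_eq_zero (isUnit_of_notMem hpos hm ?_ ?_)).1 h1
  · exact sub_mem (SetLike.one_mem_graded 𝒜) (by
      have := SetLike.mul_mem_graded (A := 𝒜) hc (show (y : R) ∈ 𝒜 0 from y.2)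
      rwa [add_zero] at this)
  · intro h
    exact (isMaximal_of_isStarLocal hpos hm).ne_top ((Ideal.eq_top_iff_one _).2
      (by simpa using Ideal.add_mem _ h (Ideal.mul_mem_right (y : R) _ hcm)))

include hpos hm hstd in
/-- A prime containing the linear forms contains the maximal ideal. -/
theorem le_of_deg_one_le {P : Ideal R} (hP : P.IsPrime) (h1 : ((𝒜 1 : AddSubgroup R) : Set R) ⊆ P) : m.toIdeal ≤ P := by
  classical
  intro z hz
  rw [← sum_support_decompose 𝒜 z]
  refine Ideal.sum_mem _ fun i _ => ?_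
  rcases lt_trichotomy i 0 with hi | rfl | hi
  · rw [nonneg_of_bot hpos i hi _ (SetLike.coe_mem _)]; exact zero_mem _
  · obtain ⟨n, hn⟩ := isNilpotent_of_mem hpos hm (SetLike.coe_mem (decompose 𝒜 z 0)) (m.isHomogeneous 0 hz)
    exact hP.mem_of_pow_mem n (hn ▸ P.zero_mem)
  · exact (Ideal.span_le.2 h1) (hstd.le (Ideal.subset_span (Set.mem_biUnion (x := i) hi (SetLike.coe_mem (decompose 𝒜 z i)))))

variable (hinf : Infinite (R ⧸ m.toIdeal))

include hpos hm hinf in
/-- Linear forms avoid finitely many primes over an infinite residue field. -/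
theorem exists_linear_notMem (S : Finset (Ideal R))
    (hS : ∀ P ∈ S, P.IsPrime ∧ ¬ ((𝒜 1 : AddSubgroup R) : Set R) ⊆ P) :
    ∃ x ∈ 𝒜 1, ∀ P ∈ S, x ∉ P := by
  classical
  induction S using Finset.induction with
  | empty => exact ⟨0, zero_mem _, fun P hP => absurd hP (Finset.notMem_empty P)⟩
  | @insert P S hPS ih =>
    obtain ⟨x, hx, hxS⟩ := ih fun Q hQ => hS Q (Finset.mem_insert_of_mem hQ)
    by_cases hxP : x ∈ P
    · obtain ⟨y, hy, hyP⟩ := Set.not_subset.1 (hS P (Finset.mem_insert_self P S)).2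
      have hrep : ∀ q : R ⧸ m.toIdeal, ∃ c ∈ 𝒜 0, Ideal.Quotient.mk m.toIdeal c = q := by
        intro q
        obtain ⟨z, rfl⟩ := Ideal.Quotient.mk_surjective q
        refine ⟨_, SetLike.coe_mem (decompose 𝒜 z 0), (Ideal.Quotient.eq.2 ?_).symm⟩
        have hsum := sum_support_decompose 𝒜 z
        by_cases h0 : (0 : ℤ) ∈ (decompose 𝒜 z).support
        · rw [← Finset.add_sum_erase _ _ h0] at hsum
          rw [sub_eq_of_eq_add' hsum.symm]
          refine Ideal.sum_mem _ fun i hi => ?_
          rcases lt_or_gt_of_ne (Finset.ne_of_mem_erase hi) with hneg | hgt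
          · rw [nonneg_of_bot hpos i hneg _ (SetLike.coe_mem _)]; exact zero_mem _
          · exact irrel_le_of_isStarLocal hpos hm (mem_irrel_of_pos 𝒜 hgt (SetLike.coe_mem _))
        · rw [DFinsupp.notMem_support_iff.1 h0, ZeroMemClass.coe_zero, sub_zero, ← hsum]
          refine Ideal.sum_mem _ fun i hi => ?_
          rcases lt_trichotomy i 0 with hneg | rfl | hgt
          · rw [nonneg_of_bot hpos i hneg _ (SetLike.coe_mem _)]; exact zero_mem _
          · exact absurd hi h0
          · exact irrel_le_of_isStarLocal hpos hm (mem_irrel_of_pos 𝒜 hgt (SetLike.coe_mem _))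
      choose c hc0 hcq using hrep
      have hsub : ∀ Q ∈ insert P S, {q | x + c q * y ∈ Q}.Subsingleton := by
        intro Q hQ q hq q' hq'
        by_contra hne
        have hu : IsUnit (c q - c q') := isUnit_of_notMem hpos hm (sub_mem (hc0 q) (hc0 q')) fun h => hne (by
          rw [← hcq q, ← hcq q']; exact Ideal.Quotient.eq.2 h)
        have h1 : (c q - c q') * y ∈ Q := by
          have h0 : x + c q * y - (x + c q' * y) ∈ Q := Q.sub_mem hq hq'
          convert h0 using 1
          ring
        have hyQ : y ∈ Q := (Ideal.unit_mul_mem_iff_mem Q hu).1 h1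
        have hxQ : x ∈ Q := by
          have h0 : x + c q * y - c q * y ∈ Q := Q.sub_mem hq (Q.mul_mem_left _ hyQ)
          rwa [add_sub_cancel_right] at h0
        rcases Finset.mem_insert.1 hQ with rfl | hQ'
        · exact hyP hyQ
        · exact hxS Q hQ' hxQ
      have hfin : (⋃ Q ∈ insert P S, {q | x + c q * y ∈ Q}).Finite :=
        (Finset.finite_toSet _).biUnion fun Q hQ => (hsub Q hQ).finite
      obtain ⟨q, hq⟩ := hfin.exists_notMem
      refine ⟨x + c q * y, add_mem hx (by simpa using SetLike.mul_mem_graded (A := 𝒜) (hc0 q) hy), fun Q hQ h => hq ?_⟩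
      exact Set.mem_iUnion₂.2 ⟨Q, hQ, h⟩
    · exact ⟨x, hx, fun Q hQ => by
        rcases Finset.mem_insert.1 hQ with rfl | hQ'
        exacts [hxP, hxS Q hQ']⟩

include hpos hm hstd hinf in
/-- A linear regular element. -/
theorem exists_regular_linear (M : Type u) [AddCommGroup M] [Module R M] [Module.Finite R M]
    (hM : GrLC.gam m.toIdeal M = ⊥) : ∃ x ∈ 𝒜 1, x ∈ m.toIdeal ∧ IsSMulRegular M x := by
  classical
  have hfin := associatedPrimes.finite R M
  obtain ⟨x, hx, hxS⟩ := exists_linear_notMem hpos hm hinf hfin.toFinset (fun P hP => by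
    obtain ⟨hPp, z, hz⟩ := exists_ass_witness (hfin.mem_toFinset.1 hP)
    refine ⟨hPp, fun hle => hPp.ne_top ?_⟩
    have hmP := le_of_deg_one_le hpos hm hstd hPp hle
    have hz0 : z = 0 := by
      rw [← Submodule.mem_bot R, ← hM]
      exact ⟨1, fun r hr => (hz r).1 (hmP (by rwa [pow_one] at hr))⟩
    exact (Ideal.eq_top_iff_one P).2 ((hz 1).2 (by rw [hz0, smul_zero])))
  exact ⟨x, hx, irrel_le_of_isStarLocal hpos hm (mem_irrel_of_pos 𝒜 one_pos hx),
    isSMulRegular_of_forall_notMem fun P hP => hxS P (hfin.mem_toFinset.2 hP)⟩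

include hpos hm hstd hinf in
/-- A linear system of parameters which is a regular sequence. -/
theorem exists_linear_list : ∀ (D : ℕ) (X : GrLC.GMod.{u} 𝒜) [Module.Finite R X.carrier],
    (∀ i < D, ∀ g, HVan m X i g) → Module.supportDim R X.carrier ≤ (D : ℕ) →
    ∃ l : List (R × ℤ), l.length = D ∧ (∀ p ∈ l, p.1 ∈ 𝒜 p.2 ∧ p.2 = 1 ∧ p.1 ∈ m.toIdeal) ∧
      IsWeaklyRegular X.carrier (l.map Prod.fst) ∧ ∀ z : X.carrier, ∃ k : ℕ, ∀ r ∈ m.toIdeal ^ k,
        r • z ∈ Ideal.ofList (l.map Prod.fst) • (⊤ : Submodule R X.carrier)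
  | 0 => fun X _ _ hd => by
    refine ⟨[], rfl, by simp, IsWeaklyRegular.nil R _, fun z => ?_⟩
    obtain ⟨k, hk⟩ := mem_gam_of_supportDim hpos hm X (hd.trans (by simp)) z
    exact ⟨k, fun r hr => by rw [hk r hr]; exact zero_mem _⟩
  | D + 1 => fun X _ hX hd => by
    classical
    have hgam : GrLC.gam m.toIdeal X.carrier = ⊥ := by
      rw [Submodule.eq_bot_iff]
      intro z hz
      rw [← sum_support_decompose X.gr z]
      refine Finset.sum_eq_zero fun g _ => ?_
      obtain ⟨e, he⟩ := exists_H0_equiv (starRes X.gr) m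
      have hzg : (decompose X.gr z g : X.carrier) ∈ GrLC.gam m.toIdeal X.carrier := isHomogeneous_gam X.gr m g hz
      have h0 := (Hcomp_eq_bot_iff _ m 0 g).1 (hX 0 (by omega) g (starRes X.gr)) _
        ((he g ⟨_, hzg⟩).1 (SetLike.coe_mem _))
      exact congrArg Subtype.val (e.map_eq_zero_iff.1 h0)
    obtain ⟨x, hx, hxi, hreg⟩ := exists_regular_linear hpos hm hstd hinf X.carrier hgam
    obtain ⟨Y, π, _, hμ, hπg, hinj, hπ, hex, -⟩ := exists_regular_seq hx hreg
    have hker : LinearMap.ker π = x • (⊤ : Submodule R X.carrier) := by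
      rw [LinearMap.exact_iff.1 hex]
      refine Submodule.ext fun z => ⟨?_, ?_⟩
      · rintro ⟨w, rfl⟩; exact Submodule.smul_mem_pointwise_smul w x ⊤ Submodule.mem_top
      · intro hz
        obtain ⟨w, -, rfl⟩ := (Submodule.mem_smul_pointwise_iff_exists z x ⊤).1 hz
        exact ⟨w, rfl⟩
    let eY : QuotSMulTop x X.carrier ≃ₗ[R] Y.carrier :=
      (Submodule.quotEquivOfEq _ _ hker.symm).trans (π.quotKerEquivOfSurjective hπ)
    have hdY : Module.supportDim R Y.carrier ≤ (D : ℕ) := by
      rw [← Module.supportDim_eq_of_equiv eY]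
      have h1 := (Module.supportDim_quotSMulTop_succ_le_of_notMem_minimalPrimes (M := X.carrier) (x := x)
        fun p hp => hreg.notMem_of_mem_minimalPrimes hp).trans hd
      cases h : Module.supportDim R (QuotSMulTop x X.carrier) with
      | bot => exact bot_le
      | coe v =>
        rw [h] at h1
        cases v with
        | top => exact absurd h1 (by rw [← WithBot.coe_one, ← WithBot.coe_add, top_add]; exact not_le.2 (WithBot.coe_lt_coe.2 (ENat.natCast_lt_top _)))
        | coe j =>
          have h2 : j + 1 ≤ D + 1 := by exact_mod_cast h1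
          exact_mod_cast (show j ≤ D by omega)
    obtain ⟨l, hlen, hl, hlreg, hltors⟩ := exists_linear_list D Y
      (fun i hi g => hVan_right hμ hπg hinj hπ hex (hX i (by omega) g) (hX (i + 1) (by omega) _)) hdY
    have hlist : Ideal.ofList (x :: l.map Prod.fst) • (⊤ : Submodule R X.carrier) =
        x • (⊤ : Submodule R X.carrier) ⊔ Ideal.ofList (l.map Prod.fst) • ⊤ := by
      rw [Ideal.ofList_cons, Submodule.sup_smul, Submodule.ideal_span_singleton_smul]
    have hmap : (Ideal.ofList (l.map Prod.fst) • (⊤ : Submodule R X.carrier)).map π =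
        Ideal.ofList (l.map Prod.fst) • ⊤ := by
      rw [Submodule.map_smul'', Submodule.map_top, LinearMap.range_eq_top.2 hπ]
    refine ⟨(x, 1) :: l, by simp [hlen], ?_, ?_, fun z => ?_⟩
    · intro p hp
      rcases List.mem_cons.1 hp with rfl | hp
      · exact ⟨hx, rfl, hxi⟩
      · exact hl p hp
    · rw [List.map_cons, isWeaklyRegular_cons_iff]
      exact ⟨hreg, (eY.isWeaklyRegular_congr _).2 hlreg⟩
    · obtain ⟨k, hk⟩ := hltors (π z)
      refine ⟨k, fun r hr => ?_⟩
      have h := hk r hr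
      rw [← map_smul, ← hmap, ← Submodule.mem_comap, Submodule.comap_map_eq, hker] at h
      rw [List.map_cons, hlist, sup_comm]
      exact h

include hpos hm hstd hinf in
/-- The ring is a polynomial ring. -/
theorem exists_algEquiv [LocCoh.IsCohenMacaulayRing R] (d : ℕ) (hd : ringKrullDim R = d)
    (I : GrLC.StarInjRes 𝒜 𝒜)
    (ha : GrLC.endDeg (I.Hgr m d) = (((-(d : ℤ) : ℤ) : WithTop ℤ) : WithBot (WithTop ℤ))) :
    ∃ e : MvPolynomial (Fin d) (GrLC.deg0 𝒜) ≃ₐ[GrLC.deg0 𝒜] R, ∀ t : Fin d, e (MvPolynomial.X t) ∈ 𝒜 1 := by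
  classical
  have hp := nonneg_of_bot hpos
  let X := gmodPieces 𝒜 𝒜
  haveI : Module.Finite R X.carrier := inferInstanceAs (Module.Finite R R)
  have hvan : ∀ i, i ≠ d → ∀ g, HVan m X i g := fun i hi g =>
    (hVan_of_pieces_res I).2 (Hcomp_eq_bot_of_ne hpos hm hd hi I g)
  obtain ⟨l, hlen, hl, hreg, htors⟩ := exists_linear_list hpos hm hstd hinf d X (fun i hi g => hvan i (by omega) g)
    ((show Module.supportDim R X.carrier = ringKrullDim R from Module.supportDim_self_eq_ringKrullDim R).trans hd).le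
  let J : Ideal R := Ideal.ofList (l.map Prod.fst)
  have hJ : ∀ z : R, z ∈ Ideal.ofList (l.map Prod.fst) • (⊤ : Submodule R R) ↔ z ∈ J := fun z => by
    rw [smul_eq_mul, Ideal.mul_top]
  obtain ⟨k₀, hk₀⟩ := htors (1 : R)
  obtain ⟨D, hD⟩ := exists_deg_bound 𝒜 hp
  obtain ⟨c, ⟨z, hz, hzJ⟩, hc⟩ := Int.exists_greatest_of_bdd (P := fun g => ∃ z ∈ 𝒜 g, z ∉ J)
    ⟨((k₀ * D : ℕ) : ℤ), fun g ⟨z, hz, hzJ⟩ => by
      by_contra hg
      refine hzJ ((hJ z).1 ?_)
      have := hk₀ z (Ideal.pow_right_mono (irrel_le_of_isStarLocal hpos hm) k₀ (hD k₀ g (by omega) z hz))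
      have h2 : z * 1 ∈ Ideal.ofList (l.map Prod.fst) • (⊤ : Submodule R R) := this
      rwa [mul_one] at h2⟩
    ⟨0, 1, SetLike.one_mem_graded 𝒜, fun h => by
      have h1 : (1 : R) ∈ m.toIdeal := Ideal.span_le.2 (fun y hy => by
        obtain ⟨p, hp, rfl⟩ := List.mem_map.1 hy
        exact (hl p hp).2.2) h
      exact (isMaximal_of_isStarLocal hpos hm).ne_top ((Ideal.eq_top_iff_one _).2 h1)⟩
  obtain ⟨-, h2, h3⟩ := hVan_regular_top (a := m) l X
    (fun p hp => ⟨(hl p hp).1, by rw [(hl p hp).2.1]; exact zero_le_one, (hl p hp).2.2⟩)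
    hreg htors c (fun g hg y hy => (hJ y).2 (by_contra fun h => absurd (hc g ⟨y, hy, h⟩) (by omega)))
    ⟨z, hz, fun h => hzJ ((hJ z).1 h)⟩
  have hsum : (l.map Prod.snd).sum = (d : ℤ) := by
    rw [List.map_congr_left (g := fun _ => (1 : ℤ)) fun p hp => (hl p hp).2.1]
    simp [hlen]
  rw [hlen, hsum] at h2 h3
  have hc0 : c ≤ 0 := by
    by_contra hlt
    have hle : GrLC.endDeg (I.Hgr m d) ≤ (((-(d : ℤ) : ℤ) : WithTop ℤ) : WithBot (WithTop ℤ)) := ha.le
    simp only [endDeg_le_iff, Hgr_eq_bot_iff, ← hVan_of_pieces_res I] at hle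
    exact h3 (hle _ (by omega))
  let x : Fin d → R := fun i => (l.get (Fin.cast hlen.symm i)).1
  have hx : ∀ i, x i ∈ 𝒜 1 := fun i => by
    have h := hl _ (List.get_mem l (Fin.cast hlen.symm i))
    exact h.2.1 ▸ h.1
  have hlx : List.ofFn x = l.map Prod.fst := by
    refine List.ext_getElem (by simp [hlen]) fun i h1 h2 => ?_
    simp [x]
  have hJx : J = Ideal.span (Set.range x) := by
    show Ideal.ofList (l.map Prod.fst) = _
    rw [← hlx]
    exact congrArg Ideal.span (Set.ext fun r => List.mem_ofFn)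
  have hall : ∀ n : ℤ, ∀ y ∈ 𝒜 n, y ∈ J → ∃ a : Fin d → R, (∀ j, a j ∈ 𝒜 (n - 1)) ∧ y = ∑ j, a j • x j :=
    fun n y hy hyJ => exists_comb 𝒜 hx hy (hJx ▸ hyJ)
  let φ : MvPolynomial (Fin d) (GrLC.deg0 𝒜) →ₐ[GrLC.deg0 𝒜] R := aeval x
  have hsurjdeg : ∀ (n : ℕ), ∀ y ∈ 𝒜 (n : ℤ), y ∈ φ.range := by
    intro n
    induction n with
    | zero => exact fun y hy => ⟨C ⟨y, hy⟩, aeval_C _ _⟩
    | succ n ih =>
      intro y hy
      have hyJ : y ∈ J := by_contra fun h => absurd (hc _ ⟨y, hy, h⟩) (by push_cast; omega)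
      obtain ⟨a, ha', rfl⟩ := hall _ y hy hyJ
      refine Subalgebra.sum_mem _ fun j _ => Subalgebra.mul_mem _ (ih (a j) ?_) ⟨MvPolynomial.X j, aeval_X _ _⟩
      have := ha' j
      rwa [show ((n + 1 : ℕ) : ℤ) - 1 = (n : ℤ) by push_cast; ring] at this
  have hs : Function.Surjective φ := fun y => by
    show y ∈ φ.range
    rw [← sum_support_decompose 𝒜 y]
    refine Subalgebra.sum_mem _ fun i _ => ?_
    rcases lt_or_ge i 0 with hi | hi
    · rw [hp i hi _ (SetLike.coe_mem _)]; exact zero_mem _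
    · lift i to ℕ using hi
      exact hsurjdeg i _ (SetLike.coe_mem _)
  have hinj : Function.Injective φ := by
    rw [injective_iff_map_eq_zero]
    intro p hp'
    refine eq_zero_of_regular d x ⊥ (fun i y hy => ?_) (fun a ha' => ?_) p (by simpa using hp')
    · rw [bot_sup_eq] at hy ⊢
      have hi : (i : ℕ) < (l.map Prod.fst).length := by simp [hlen]
      have h := hreg.regular_mod_prev i hi
      have hI : Ideal.ofList ((l.map Prod.fst).take i) = Ideal.span (x '' {j | j < i}) := by
        rw [← hlx]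
        refine congrArg Ideal.span (Set.ext fun r => ?_)
        constructor
        · intro hr
          obtain ⟨j, hj, rfl⟩ := List.mem_iff_getElem.1 (show r ∈ (List.ofFn x).take i from hr)
          simp only [List.length_take, List.length_ofFn] at hj
          refine ⟨⟨j, by omega⟩, show j < (i : ℕ) by omega, ?_⟩
          simp [List.getElem_take]
        · rintro ⟨j, hj, rfl⟩
          show x j ∈ (List.ofFn x).take i
          refine List.mem_iff_getElem.2 ⟨j, ?_, List.getElem_take.trans (List.getElem_ofFn _)⟩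
          simp only [List.length_take, List.length_ofFn]
          have : (j : ℕ) < i := hj
          omega
      have hxi : (l.map Prod.fst)[(i : ℕ)] = x i := by simp [x]
      rw [hxi] at h
      let N : Submodule R R := Ideal.ofList ((l.map Prod.fst).take i) • ⊤
      have hN : ∀ w : R, w ∈ N ↔ w ∈ Ideal.span (x '' {j | j < i}) := fun w => by
        show w ∈ Ideal.ofList ((l.map Prod.fst).take i) • (⊤ : Submodule R R) ↔ _
        rw [smul_eq_mul, Ideal.mul_top, hI]
      have h0 : x i • N.mkQ y = 0 := by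
        rw [← map_smul]
        exact (Submodule.Quotient.mk_eq_zero N).2 ((hN _).2 (by rwa [smul_eq_mul]))
      exact (hN y).1 ((Submodule.Quotient.mk_eq_zero N).1 (IsSMulRegular.right_eq_zero_of_smul h h0))
    · rw [bot_sup_eq, ← hJx] at ha'
      obtain ⟨b, hb, hab⟩ := hall 0 (a : R) a.2 ha'
      refine Subtype.ext (hab.trans (Finset.sum_eq_zero fun j _ => ?_))
      rw [hp _ (by omega) _ (hb j), zero_smul]
  exact ⟨AlgEquiv.ofBijective φ ⟨hinj, hs⟩, fun t => by
    show φ (MvPolynomial.X t) ∈ 𝒜 1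
    rw [aeval_X]; exact hx t⟩

end Groth.Agent.PolyArt6
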